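import Mathlib
import Groth.Agent.Lib.Helper21.FibreStalk

/-!
# S9501: the local ring of a fibre, for an arbitrary point of an arbitrary fibre
-/

set_option autoImplicit false
universe u

open AlgebraicGeometry CategoryTheory Limits TopologicalSpace IsLocalRing

namespace Groth.Agent.Lib.Helper24.FibStalk

open Groth.Agent.Lib.Helper21.FibreStalk

/-- the statement, as a predicate of the pair `(s, y)` -/
def Goal {X S : Scheme.{u}} (f : X ⟶ S) (s : S) (y : ↥(f.fiber s)) : Prop :=
  RingHom.ker ((f.fiberι s).stalkMap y).hom =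
    Ideal.map (f.stalkMap ((f.fiberι s).base y)).hom
      (IsLocalRing.maximalIdeal (S.presheaf.stalk (f.base ((f.fiberι s).base y))))

theorem goal_transport {X S : Scheme.{u}} (f : X ⟶ S) (s s' : S) (h : s = s') (y : ↥(f.fiber s))
    (y' : ↥(f.fiber s')) (hyy' : (f.fiberι s) y = (f.fiberι s') y') (H : Goal f s' y') :
    Goal f s y := by
  subst h
  obtain rfl : y = y' := (f.fiberι s).isEmbedding.injective hyy'
  exact H

theorem goal_zpt {X S : Scheme.{u}} (f : X ⟶ S) (x : X) : Goal f (f x) (zpt f x) := by
  unfold Goal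
  have hz := fiberι_zpt f x
  have K := ker_toFibStalk f x
  unfold toFibStalk at K
  haveI hiso : IsIso (X.presheaf.stalkSpecializes (specializes_of_eq hz)) :=
    isIso_stalkSpecializes_of_eq hz
  have hbij : Function.Bijective (X.presheaf.stalkSpecializes (specializes_of_eq hz)).hom :=
    (ConcreteCategory.isIso_iff_bijective _).1 hiso
  have hSspec : (f.base ((f.fiberι (f x)) (zpt f x))) ⤳ f.base x :=
    f.base.hom.map_specializes (specializes_of_eq hz)
  have hfz : f.base ((f.fiberι (f x)) (zpt f x)) = f.base x := by rw [hz]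
  haveI hisoS : IsIso (S.presheaf.stalkSpecializes hSspec) :=
    isIso_stalkSpecializes_of_eq hfz
  have hbijS : Function.Bijective (S.presheaf.stalkSpecializes hSspec).hom :=
    (ConcreteCategory.isIso_iff_bijective _).1 hisoS
  -- step 1
  have h1 : RingHom.ker ((f.fiberι (f x)).stalkMap (zpt f x)).hom =
      Ideal.map (X.presheaf.stalkSpecializes (specializes_of_eq hz)).hom (fibIdeal f x) := by
    rw [← K, CommRingCat.hom_comp, ← RingHom.comap_ker,
      Ideal.map_comap_of_surjective _ hbij.2]
  rw [h1]
  unfold fibIdeal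
  rw [Ideal.map_map]
  -- step 2: naturality
  have h2 := Scheme.Hom.stalkSpecializes_stalkMap f _ _ (specializes_of_eq hz)
  have h2' : (X.presheaf.stalkSpecializes (specializes_of_eq hz)).hom.comp (f.stalkMap x).hom =
      (f.stalkMap ((f.fiberι (f x)) (zpt f x))).hom.comp (S.presheaf.stalkSpecializes hSspec).hom := by
    rw [← CommRingCat.hom_comp, ← CommRingCat.hom_comp]
    exact congrArg CommRingCat.Hom.hom h2.symm
  rw [h2', ← Ideal.map_map]
  congr 1
  exact IsLocalRing.map_maximalIdeal_of_surjective _ hbijS.2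

theorem main9501 {X S : Scheme.{u}} (f : X ⟶ S) (s : S) (y : ↥(f.fiber s)) :
    Function.Surjective ((f.fiberι s).stalkMap y).hom ∧
      RingHom.ker ((f.fiberι s).stalkMap y).hom =
        Ideal.map (f.stalkMap ((f.fiberι s).base y)).hom
          (IsLocalRing.maximalIdeal (S.presheaf.stalk (f.base ((f.fiberι s).base y)))) := by
  refine ⟨(f.fiberι s).stalkMap_surjective y, ?_⟩
  have hs : s = f ((f.fiberι s) y) := by
    have := congr($(f.fiber_fac s) y)
    simp only [Scheme.Hom.comp_apply] at this
    rw [this]
    exact (Scheme.fromSpecResidueField_apply _ _).symm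
  exact goal_transport f s (f ((f.fiberι s) y)) hs y (zpt f ((f.fiberι s) y))
    (fiberι_zpt f _).symm (goal_zpt f _)

end Groth.Agent.Lib.Helper24.FibStalk
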